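import Mathlib
import Cfsg.Agent.Lib.Contrib.BF
import Cfsg.Agent.Lib.BlockD1.OrderTwo
import Cfsg.Agent.Lib.Blocks.Rank1

/-!
# Blocks of `C_G(x)` of defect at most two for an involution `x` have rank one

The block of `C_G(x)/⟨x⟩` dominated by the block has defect at most one, so its members agree on the elements
of odd order.
-/

set_option autoImplicit false
set_option linter.unusedSectionVars false
set_option linter.style.haveILetI false

namespace Cfsg.Agent.Lib.KleinBlock.Rank

open Cfsg MonoidAlgebra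
open Cfsg.Agent.Lib.Blocks.Local Cfsg.Agent.Lib.Blocks.Central Cfsg.Agent.Lib.Blocks.Quot
open Cfsg.Agent.Lib.Blocks.DomRank Cfsg.Agent.Lib.Blocks.Sections
open Cfsg.Agent.Lib.BlockH.Regular Cfsg.Agent.Lib.BlockP.Defect
open Cfsg.Agent.Lib.Char.Ortho Cfsg.Agent.Lib.Char.Basic Cfsg.Agent.Lib.Char.GenLattice
open Cfsg.Agent.Lib.Contrib.Proj Cfsg.Agent.Lib.Contrib.Cyc Cfsg.Agent.Lib.Contrib.Family
open Cfsg.Agent.Lib.Contrib.Sec Cfsg.Agent.Lib.Contrib.Adams Cfsg.Agent.Lib.Contrib.Dom
open Cfsg.Agent.Lib.Contrib.RankOne Cfsg.Agent.Lib.Contrib.Section Cfsg.Agent.Lib.Contrib.D1Loc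
open Cfsg.Agent.Lib.Contrib.D1Main Cfsg.Agent.Lib.Contrib.MajorEx Cfsg.Agent.Lib.Contrib.BF
open scoped ComplexConjugate

universe u

section Agree

variable {G : Type u} [Group G] [Fintype G] [Fintype (IrrCharacter G)] {M : Ideal AlgInt}

/-- The members of a `2`-block of defect at most one agree on the elements of odd order. -/
theorem agree_of_defect_le_one [Fact (Nat.Prime 2)] (hM : IsPModular 2 M) {A : Set (IrrCharacter G)}
    (hA : IsPBlock M A) (hd : blockDefect 2 A ≤ 1) :
    ∀ χ ∈ A, ∀ ψ ∈ A, ∀ g : G, ¬ 2 ∣ orderOf g → (χ : G → ℂ) g = (ψ : G → ℂ) g := by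
  classical
  haveI := isPrime_of_pModular hM
  rcases Nat.le_one_iff_eq_zero_or_eq_one.mp hd with h0 | h1
  · obtain ⟨φ, hφ⟩ := exists_eq_singleton hM hA h0
    subst hφ
    intro χ hχ ψ hψ g _
    rw [Set.mem_singleton_iff.mp hχ, Set.mem_singleton_iff.mp hψ]
  · obtain ⟨D, hD⟩ := Cfsg.Agent.Lib.Blocks.Defect2.exists_isDefectGroup (p := 2) hA
    have hcard := Cfsg.Agent.Lib.Blocks.Inducing.card_eq_pow_blockDefect hM hA hD
    rw [h1, pow_one] at hcard
    haveI : Nontrivial D := (Finite.one_lt_card_iff_nontrivial).mp (by rw [hcard]; norm_num)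
    obtain ⟨w, hw⟩ := exists_ne (1 : D)
    have hw1 : (w : G) ≠ 1 := fun h => hw (Subtype.ext h)
    have hwo : orderOf (w : G) = 2 := by
      have h1 : orderOf (w : G) ∣ 2 := by
        rw [Subgroup.orderOf_coe, ← hcard]
        exact orderOf_dvd_natCard w
      rcases (Nat.dvd_prime Nat.prime_two).mp h1 with h | h
      · exact absurd (orderOf_eq_one_iff.mp h) hw1
      · exact h
    have hDz : D = Subgroup.zpowers (w : G) := by
      symm
      apply Subgroup.eq_of_le_of_card_ge
      · rw [Subgroup.zpowers_le]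
        exact w.2
      · rw [hcard, Nat.card_zpowers, hwo]
    rw [hDz] at hD
    letI : Fintype (Subgroup.centralizer ({(w : G)} : Set G)) := Fintype.ofFinite _
    haveI := finite_irrCharacter (G := Subgroup.centralizer ({(w : G)} : Set G))
    letI : Fintype (IrrCharacter (Subgroup.centralizer ({(w : G)} : Set G))) := Fintype.ofFinite _
    obtain ⟨b, hb, hbd⟩ := exists_major hM hA hD (z := (w : G)) (Subgroup.mem_zpowers _) (by
      intro d hd
      obtain ⟨i, rfl⟩ := hd
      exact ((Commute.refl (w : G)).zpow_left i).eq)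
    rw [h1] at hbd
    obtain ⟨θ, hθ, hθw, -⟩ := rank_one_K hM hwo hb.1 hbd
    exact (Cfsg.Agent.Lib.BlockD1.OrderTwo.defect_two hM hwo hA hD hb hθ hθw).2.1

end Agree

section Main

variable {C X : Type u} [Group C] [Group X] [Fintype C] [Fintype X] {p : ℕ} [hp : Fact p.Prime]
  (π : C →* X) (hπ : Function.Surjective π) (hker : IsPGroup p π.ker)
  (hcen : ∀ u ∈ π.ker, ∀ c : C, Commute u c)
  [Fintype (IrrCharacter C)] [Fintype (IrrCharacter X)] {M : Ideal AlgInt}

include hker hcen in
/-- The values of a member of a block on regular elements are combinations of the members of the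
dominated block. -/
theorem exists_coeff (hM : IsPModular p M) {b : Set (IrrCharacter C)} (hb : IsPBlock M b)
    {A : Set (IrrCharacter X)} [Fintype A] (hA : ∀ ψ, ψ ∈ A ↔ inflI π hπ ψ ∈ b)
    {ξ : IrrCharacter C} (hξ : ξ ∈ b) :
    ∃ u : A → ℂ, ∀ c : C, ¬ p ∣ orderOf c →
      (ξ : C → ℂ) c = ∑ ψ : A, u ψ * ((ψ : IrrCharacter X) : X → ℂ) (π c) := by
  classical
  set g : C → ℂ := PP p b (ξ : C → ℂ) with hg
  have hgreg : g = pRegularPart p (ξ : C → ℂ) := PP_irr_of_mem hξ
  have hgs : ∀ c, p ∣ orderOf c → g c = 0 := by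
    intro c hc
    rw [hgreg]
    exact part_sing (not_not.mpr hc)
  have hgc : IsClassFunction C g := isClassFunction_PP _ _
  have hout : ∀ ψ : IrrCharacter X, ψ ∉ A → classInner g (inflI π hπ ψ : C → ℂ) = 0 := by
    intro ψ hψ
    exact classInner_PP_eq_zero hM hb _ (fun h => hψ ((hA ψ).mpr h))
  refine ⟨uu π hπ g, fun c hc => ?_⟩
  have h1 : g c = (ξ : C → ℂ) c := by
    rw [hgreg]
    exact part_reg hc
  rw [← h1, ← push'_regular π hker hcen hgs hc, ← sum_uu_eq π hπ hgc hout]

end Main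

section Final

variable {G : Type u} [Group G] [Fintype G] {M : Ideal AlgInt} [Fact (Nat.Prime 2)]

/-- **A block of `C_G(x)` of defect at most two, for an involution `x`, has rank one.** -/
theorem blockRank_eq_one (hM : IsPModular 2 M) {x : G} (hx : orderOf x = 2)
    {f : Set (IrrCharacter (Subgroup.centralizer ({x} : Set G)))} (hf : IsPBlock M f)
    (hd : blockDefect 2 f ≤ 2) : blockRank 2 f = 1 := by
  classical
  haveI := isPrime_of_pModular hM
  haveI := finite_irrCharacter (G := G)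
  letI : Fintype (IrrCharacter G) := Fintype.ofFinite _
  letI : Fintype (KK x) := Fintype.ofFinite _
  haveI := finite_irrCharacter (G := KK x)
  letI : Fintype (IrrCharacter (KK x)) := Fintype.ofFinite _
  have hk : orderOf x = 2 ^ 1 := by rw [hx, pow_one]
  obtain ⟨X, _, _, _, π, hπ, hker, hcen, hK⟩ := exists_quot hk
  obtain ⟨A, hAb, hA⟩ := exists_dominated π hπ hker hcen hM hf
  letI : Fintype A := Fintype.ofFinite _
  have hne := isPBlock_nonempty hAb
  have hdef := blockDefect_add_le (p := 2) π hπ hne hA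
  have hfac : (Nat.card π.ker).factorization 2 = 1 := by
    rw [hK, pow_one]
    exact Nat.prime_two.factorization_self
  rw [hfac] at hdef
  have hagree := agree_of_defect_le_one hM hAb (by omega)
  obtain ⟨ψ₀, hψ₀⟩ := hne
  refine Cfsg.Agent.Lib.Blocks.Rank1.blockRank_eq_one_of_scalar ((hA ψ₀).mp hψ₀) fun χ hχ => ?_
  obtain ⟨u, hu⟩ := exists_coeff π hπ hker hcen hM hf hA hχ
  refine ⟨∑ ψ, u ψ, fun y hy => ?_⟩
  rw [hu y hy, Finset.sum_mul]
  refine Fintype.sum_congr _ _ fun ψ => ?_
  have hy' : ¬ 2 ∣ orderOf (π y) := not_dvd_map π hy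
  rw [hagree _ ψ.2 _ hψ₀ _ hy']
  rfl

end Final

end Cfsg.Agent.Lib.KleinBlock.Rank
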