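import Mathlib
import Cfsg.Agent.Lib.Contrib.BF
import Cfsg.Agent.Lib.Contrib.TwoMajor

/-!
# A `2`-block with Klein four defect group has four irreducible characters
-/

set_option autoImplicit false
set_option linter.unusedSectionVars false
set_option linter.style.haveILetI false

namespace Cfsg.Agent.Lib.KleinBlock.Card

open Cfsg MonoidAlgebra
open Cfsg.Agent.Lib.Blocks.Local Cfsg.Agent.Lib.Blocks.Central
open Cfsg.Agent.Lib.BlockP.Defect
open Cfsg.Agent.Lib.Contrib.Cyc Cfsg.Agent.Lib.Contrib.Sec Cfsg.Agent.Lib.Contrib.Major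
open Cfsg.Agent.Lib.Contrib.MajorEx Cfsg.Agent.Lib.Contrib.TwoMajor Cfsg.Agent.Lib.Contrib.BF
open scoped ComplexConjugate

universe u

/-- `Zr 2` is the ring of integers. -/
theorem sq_eq_one_iff_of_side_condition {x : ℂ} (h : x ^ 2 = 1) : x = 1 ∨ x = -1 := by
  have h1 : (x - 1) * (x + 1) = 0 := by linear_combination h
  rcases mul_eq_zero.mp h1 with h2 | h2
  · exact Or.inl (sub_eq_zero.mp h2)
  · exact Or.inr (eq_neg_of_add_eq_zero_left h2)

theorem exists_int_of_mem_Zr_two {z : ℂ} (hz : z ∈ Zr (2 ^ 1)) : ∃ n : ℤ, z = n := by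
  induction hz using Subring.closure_induction with
  | mem x hx =>
    have hx' : x ^ 2 = 1 := by simpa using hx
    rcases sq_eq_one_iff_of_side_condition hx' with h | h
    · exact ⟨1, by simp [h]⟩
    · exact ⟨-1, by simp [h]⟩
  | zero => exact ⟨0, by simp⟩
  | one => exact ⟨1, by simp⟩
  | add x y _ _ hx hy =>
    obtain ⟨a, rfl⟩ := hx
    obtain ⟨b, rfl⟩ := hy
    exact ⟨a + b, by simp⟩
  | neg x _ hx =>
    obtain ⟨a, rfl⟩ := hx
    exact ⟨-a, by simp⟩
  | mul x y _ _ hx hy =>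
    obtain ⟨a, rfl⟩ := hx
    obtain ⟨b, rfl⟩ := hy
    exact ⟨a * b, by simp⟩

theorem eight_dvd_sq_sub_one {n : ℤ} (h : Odd n) : (8 : ℤ) ∣ n * n - 1 := by
  obtain ⟨a, rfl⟩ := h
  obtain ⟨b, hb⟩ := Int.even_mul_succ_self a
  refine ⟨b, ?_⟩
  have e : (2 * a + 1) * (2 * a + 1) - 1 = 4 * (a * (a + 1)) := by ring
  rw [e, hb]
  ring

variable {G : Type u} [Group G] [Finite G] {M : Ideal AlgInt}

/-- The defect of a block with defect group of order four. -/
theorem blockDefect_eq_two [Fact (Nat.Prime 2)] (hM : IsPModular 2 M) {B : Set (IrrCharacter G)} (hB : IsPBlock M B)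
    {P : Subgroup G} (hD : IsDefectGroup 2 M B P) (hcard : Nat.card P = 4) : blockDefect 2 B = 2 := by
  classical
  cases nonempty_fintype G
  have h := Cfsg.Agent.Lib.Blocks.Inducing.card_eq_pow_blockDefect hM hB hD
  rw [hcard] at h
  have h4 : (2 : ℕ) ^ 2 = 2 ^ blockDefect 2 B := by rw [← h]; norm_num
  exact (Nat.pow_right_injective (le_refl 2) h4).symm

/-- **A `2`-block with Klein four defect group has four irreducible characters.** -/
theorem card_eq_four [Fact (Nat.Prime 2)] (hM : IsPModular 2 M) {B : Set (IrrCharacter G)} (hB : IsPBlock M B)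
    {P : Subgroup G} (hD : IsDefectGroup 2 M B P) (hcard : Nat.card P = 4)
    (hab : ∀ a ∈ P, ∀ b ∈ P, a * b = b * a) (hexp : ∀ a ∈ P, a ^ 2 = 1) : Nat.card B = 4 := by
  classical
  cases nonempty_fintype G
  haveI := isPrime_of_pModular hM
  haveI := Cfsg.Agent.Lib.Char.Ortho.finite_irrCharacter (G := G)
  letI : Fintype (IrrCharacter G) := Fintype.ofFinite _
  letI : Fintype B := Fintype.ofFinite _
  have hd := blockDefect_eq_two hM hB hD hcard
  haveI : Nontrivial P := (Finite.one_lt_card_iff_nontrivial).mp (by rw [hcard]; norm_num)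
  obtain ⟨w, hw⟩ := exists_ne (1 : P)
  have hw1 : (w : G) ≠ 1 := fun h => hw (Subtype.ext h)
  have hk : orderOf (w : G) = 2 ^ 1 := by
    rw [pow_one]
    exact orderOf_eq_prime (hexp _ w.2) hw1
  letI : Fintype (Subgroup.centralizer ({(w : G)} : Set G)) := Fintype.ofFinite _
  haveI := Cfsg.Agent.Lib.Char.Ortho.finite_irrCharacter (G := Subgroup.centralizer ({(w : G)} : Set G))
  letI : Fintype (IrrCharacter (Subgroup.centralizer ({(w : G)} : Set G))) := Fintype.ofFinite _
  obtain ⟨b, hb, hq⟩ := exists_major hM hB hD (z := (w : G)) w.2 (fun d hd => hab d hd _ w.2)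
  have hdb : blockDefect 2 b = 2 := hq.trans hd
  obtain ⟨t, -, ht1, -, -, -, -, hlt⟩ := two_data hM hk hB hb hq
  have hh0 : ∀ i : B, blockHeight 2 B ((i : IrrCharacter G) : G → ℂ) = 0 := by
    intro i
    by_contra hne
    have h1 := Nat.one_le_iff_ne_zero.mpr hne
    obtain ⟨h2, h3⟩ := ht1 i h1
    have h4 := hlt i h1
    rw [hdb] at h4
    have h5 : 2 ^ 2 ∣ t i := (pow_dvd_pow 2 (by omega)).trans h2
    have h6 := Nat.le_of_dvd h3 h5
    omega
  obtain ⟨m, hZ, hconj, hmul, -, hY1, -⟩ := exists_matrix_major hM hk hB hb hq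
  choose n hn using fun i j => exists_int_of_mem_Zr_two (hZ i j)
  have hodd : ∀ i j, Odd (n i j) := by
    intro i j
    have h := (hY1 i j (hh0 i)).2
    rw [hh0 j, pow_zero, Nat.cast_one, div_one, hn i j, intCast_memLocalIdeal_iff hM] at h
    rw [← Int.not_even_iff_odd, even_iff_two_dvd]
    exact_mod_cast h
  obtain ⟨τ⟩ : Nonempty B := (isPBlock_nonempty hB).to_subtype
  have h1 := hmul τ
  rw [hdb] at h1
  have h2 : ∑ j, n τ j * n j τ = 2 ^ 2 * n τ τ := by
    have h3 : ((∑ j, n τ j * n j τ : ℤ) : ℂ) = ((2 ^ 2 * n τ τ : ℤ) : ℂ) := by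
      push_cast
      simp only [hn] at h1
      rw [h1]
      push_cast
      ring
    exact_mod_cast h3
  have hsym : ∀ i j, n j i = n i j := by
    intro i j
    have h3 := hconj i j
    rw [hn i j, hn j i] at h3
    simp only [map_intCast] at h3
    exact_mod_cast h3
  have h8 : (8 : ℤ) ∣ ∑ j, (n τ j * n τ j - 1) :=
    Finset.dvd_sum fun j _ => eight_dvd_sq_sub_one (hodd τ j)
  rw [Finset.sum_sub_distrib] at h8
  simp only [Finset.sum_const, Finset.card_univ, nsmul_eq_mul, mul_one] at h8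
  have h9 : ∑ j, n τ j * n τ j = 2 ^ 2 * n τ τ := by
    rw [← h2]
    refine Fintype.sum_congr _ _ fun j => ?_
    rw [hsym τ j]
  rw [h9] at h8
  obtain ⟨a, ha⟩ := hodd τ τ
  have hle := card_le_Fb hM 2 B hB hd
  have hF : Fb 2 2 = 4 := by simp [Fb]
  rw [hF, Nat.card_eq_fintype_card] at hle
  haveI : Nonempty B := ⟨τ⟩
  have hpos : 0 < Fintype.card B := Fintype.card_pos
  rw [Nat.card_eq_fintype_card]
  rw [ha] at h8
  omega

end Cfsg.Agent.Lib.KleinBlock.Card
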