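import Mathlib
import Cfsg.Agent.Lib.BlockH.InducedPairs

/-!
# Conjugation of subpairs inside a maximal pair with abelian subgroup

`exists_fusion`: fusion between subpairs of a maximal Brauer pair `(P, e)`, `P` abelian, is induced by the stabilizer
of `(P, e)`.  The relation `Rel x x' f`: the block `f` of `C_G(x)` is carried by a conjugation `x ↦ x'` to the block of
`C_G(x')` below `(P, e)`.
-/

set_option linter.unusedSectionVars false
set_option linter.style.haveILetI false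
set_option autoImplicit false

namespace Cfsg.Agent.Lib.KleinBlock.Fusion

open Cfsg MonoidAlgebra
open Cfsg.Agent.Lib.Blocks.Local Cfsg.Agent.Lib.Blocks.Central Cfsg.Agent.Lib.Blocks.Brauer
open Cfsg.Agent.Lib.Blocks.Induced Cfsg.Agent.Lib.Blocks.Weak Cfsg.Agent.Lib.Blocks.Third
open Cfsg.Agent.Lib.Blocks.Defect Cfsg.Agent.Lib.Blocks.Defect2 Cfsg.Agent.Lib.BlockT.SylowIn
open Cfsg.Agent.Lib.Blocks.Inducing Cfsg.Agent.Lib.Blocks.FMT
open Cfsg.Agent.Lib.BlockH.Pairs Cfsg.Agent.Lib.BlockH.BrauerMap Cfsg.Agent.Lib.BlockH.Transport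
open Cfsg.Agent.Lib.BlockH.Subpair Cfsg.Agent.Lib.BlockH.SubpairLE Cfsg.Agent.Lib.BlockH.ConjPair
open Cfsg.Agent.Lib.BlockH.MaxPair Cfsg.Agent.Lib.BlockH.Sylow Cfsg.Agent.Lib.BlockH.Defects
open Cfsg.Agent.Lib.BlockH.FusionB Cfsg.Agent.Lib.BlockH.StabBlock Cfsg.Agent.Lib.BlockH.StabDefect
open Cfsg.Agent.Lib.BlockH.Descent Cfsg.Agent.Lib.BlockH.StableIndex
open Cfsg.Agent.Lib.BlockH.Saturation Cfsg.Agent.Lib.BlockH.Nilpotent
open Cfsg.Agent.Lib.BlockH.AbelianDefect Cfsg.Agent.Lib.BlockH.InducedPairs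

universe u

variable {G : Type u} [Group G] [Fintype G] {M : Ideal AlgInt} {p : ℕ}
variable {B : Set (IrrCharacter G)} {P Q Q' : Subgroup G}
  {e : Set (IrrCharacter (Subgroup.centralizer (P : Set G)))}
  {f : Set (IrrCharacter (Subgroup.centralizer (Q : Set G)))}
  {f' : Set (IrrCharacter (Subgroup.centralizer (Q' : Set G)))}

/-- **Fusion of subpairs of a maximal pair on an abelian subgroup.** -/
theorem exists_fusion [Fact p.Prime] (hM : IsPModular p M)
    (hmax : IsMaximalBrauerPair p M B P e) (hab : ∀ x ∈ P, ∀ y ∈ P, x * y = y * x)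
    (hQP : Q ≤ P) (hQ'P : Q' ≤ P) (hf : IsPBlock M f) (hf' : IsPBlock M f')
    (hle : SubpairLE p M Q f P e) (hle' : SubpairLE p M Q' f' P e) {w : G}
    (hw : Q.map (MulAut.conj w).toMonoidHom = Q') (hwf : blockMap (conjEquivOf w hw) f = f') :
    ∃ t ∈ stabSub P e, ∃ c ∈ Subgroup.centralizer (Q' : Set G), t = c * w := by
  classical
  haveI := isPrime_of_pModular hM
  have hPe := hmax.1.1
  have hQp : IsPGroup p Q := hPe.1.to_le hQP
  have hPC : P ≤ Subgroup.centralizer (Q : Set G) := by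
    intro a ha
    rw [Subgroup.mem_centralizer_iff]
    intro q hq
    exact hab q (hQP hq) a ha
  have hPC' : P ≤ Subgroup.centralizer (Q' : Set G) := by
    intro a ha
    rw [Subgroup.mem_centralizer_iff]
    intro q hq
    exact hab q (hQ'P hq) a ha
  have hnor : IsNormalSubpair p M Q f P e :=
    isNormalSubpair_of_subpairLE hM ⟨hQp, hf⟩ hle (hPC.trans (centralizer_le_normalizer'' Q))
  have hnorx := isNormalSubpair_conj (x := w) hw rfl hnor
  rw [hwf] at hnorx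
  have hUL : P.map (MulAut.conj w).toMonoidHom ≤ Subgroup.centralizer (Q' : Set G) := by
    rintro _ ⟨a, ha, rfl⟩
    exact (conjEquivOf w hw ⟨a, hPC ha⟩).2
  obtain ⟨c, hc, hext⟩ := ext_core hM hmax hQ'P hf' hle' le_rfl (hPC'.trans (centralizer_le_normalizer'' Q'))
    hQ'P hPC' le_rfl (centralizer_le_normalizer'' Q') (fun t ht => stabilizesBlock_of_mem Q' f' ht)
    (fun _ _ => Subgroup.card_le_of_le inf_le_left) hUL hnorx
  have h1 := subpairLE_conj_mul w c hext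
  have hPcx : P.map (MulAut.conj (c * w)).toMonoidHom = P :=
    Subgroup.eq_of_le_of_card_ge (le_of_subpairLE h1) (card_conj_eq P (c * w)).ge
  have h2 := subpairLE_of_map_eq hPcx h1
  have h3 : blockMap (conjEquivOf (c * w) hPcx) e = e :=
    subpairLE_unique_aux hM hPe _ P le_rfl rfl _ e (isPBlock_blockMap _ hPe.2) h2 hPe.2
      Relation.ReflTransGen.refl
  exact ⟨c * w, ⟨mem_normalizer_of_map_eq hPcx, stabilizesBlock_of_eq hPcx hPe.2 h3⟩, c, hc, rfl⟩

/-- The conjugate of a cyclic subgroup. -/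
theorem conj_zpowers {g x x' : G} (h : g * x * g⁻¹ = x') :
    (Subgroup.zpowers x).map (MulAut.conj g).toMonoidHom = Subgroup.zpowers x' := by
  rw [MonoidHom.map_zpowers, ← h]
  rfl

/-- The block `f` of `C_G(x)` is carried by a conjugation `x ↦ x'` to a block below `(P, e)`. -/
def Rel (p : ℕ) (M : Ideal AlgInt) (P : Subgroup G) (e : Set (IrrCharacter (Subgroup.centralizer (P : Set G))))
    (x x' : G) (f : Set (IrrCharacter (Subgroup.centralizer ((Subgroup.zpowers x : Subgroup G) : Set G)))) : Prop :=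
  ∃ (g : G) (h : g * x * g⁻¹ = x'), SubpairLE p M (Subgroup.zpowers x') (blockMap (conjEquivOf g (conj_zpowers h)) f) P e

variable {x x' x₀ : G}
  {f₀ f₁ f₂ : Set (IrrCharacter (Subgroup.centralizer ((Subgroup.zpowers x : Subgroup G) : Set G)))}

/-- Every element of `P` conjugate to `x` is related to a block inducing `B`. -/
theorem exists_rel_of_conj [Fact p.Prime] (hM : IsPModular p M) (hPe : IsBrauerPairOf p M B P e)
    (hx'P : x' ∈ P) {g : G} (hg : g * x * g⁻¹ = x') :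
    ∃ f, IsInducedBlock M (Subgroup.centralizer ((Subgroup.zpowers x : Subgroup G) : Set G)) f B ∧ Rel p M P e x x' f := by
  classical
  haveI := isPrime_of_pModular hM
  obtain ⟨F, ⟨hF, hle⟩, -⟩ := existsUnique_subpairLE hM hPe.1 (Subgroup.zpowers_le.mpr hx'P)
  have hpair : IsBrauerPairOf p M B (Subgroup.zpowers x') F :=
    (isBrauerPairOf_iff_of_subpairLE hM hle hPe.2.1).mp hPe
  have hinv : (Subgroup.zpowers x').map (MulAut.conj g⁻¹).toMonoidHom = Subgroup.zpowers x :=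
    map_conj_inv (conj_zpowers hg)
  have hsymm : conjEquivOf g⁻¹ hinv = (conjEquivOf g (conj_zpowers hg)).symm := by
    ext c
    simp
  have hpair2 := isBrauerPairOf_conj hinv hpair
  refine ⟨blockMap (conjEquivOf g⁻¹ hinv) F, isInducedBlock_of_isBrauerPairOf hM hpair2, g, hg, ?_⟩
  rw [hsymm, blockMap_blockMap_symm]
  exact hle

/-- Uniqueness of the related block. -/
theorem rel_unique [Fact p.Prime] (hM : IsPModular p M) (hPe : IsBrauerPair p M P e)
    (hx'P : x' ∈ P) (hf₁ : IsPBlock M f₁) (hf₂ : IsPBlock M f₂)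
    (h₁ : Rel p M P e x x' f₁) (h₂ : Rel p M P e x x' f₂) : f₁ = f₂ := by
  classical
  haveI := isPrime_of_pModular hM
  obtain ⟨g₁, hg₁, hle₁⟩ := h₁
  obtain ⟨g₂, hg₂, hle₂⟩ := h₂
  have hun := (existsUnique_subpairLE hM hPe (Subgroup.zpowers_le.mpr hx'P)).unique
    ⟨isPBlock_blockMap _ hf₁, hle₁⟩ ⟨isPBlock_blockMap _ hf₂, hle₂⟩
  have hh : (g₂⁻¹ * g₁) * x * (g₂⁻¹ * g₁)⁻¹ = x := by
    have e1 : g₁ * x * g₁⁻¹ = g₂ * x * g₂⁻¹ := hg₁.trans hg₂.symm
    calc (g₂⁻¹ * g₁) * x * (g₂⁻¹ * g₁)⁻¹ = g₂⁻¹ * (g₁ * x * g₁⁻¹) * g₂ := by group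
      _ = g₂⁻¹ * (g₂ * x * g₂⁻¹) * g₂ := by rw [e1]
      _ = x := by group
  have hmem : g₂⁻¹ * g₁ ∈ Subgroup.centralizer ((Subgroup.zpowers x : Subgroup G) : Set G) := by
    rw [Subgroup.mem_centralizer_iff]
    rintro _ ⟨i, rfl⟩
    have hc : Commute x (g₂⁻¹ * g₁) := by
      have h3 : (g₂⁻¹ * g₁) * x = x * (g₂⁻¹ * g₁) := by
        calc (g₂⁻¹ * g₁) * x = ((g₂⁻¹ * g₁) * x * (g₂⁻¹ * g₁)⁻¹) * (g₂⁻¹ * g₁) := by group
          _ = x * (g₂⁻¹ * g₁) := by rw [hh]
      exact h3.symm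
    exact (hc.zpow_left i).eq
  have hfix := blockMap_eq_of_stabilizes (conj_zpowers hh) hf₁ (stabilizesBlock_of_mem _ f₁ hmem)
  have hcomp : blockMap (conjEquivOf g₂ (conj_zpowers hg₂))
      (blockMap (conjEquivOf (g₂⁻¹ * g₁) (conj_zpowers hh)) f₁) =
      blockMap (conjEquivOf g₁ (conj_zpowers hg₁)) f₁ := by
    rw [blockMap_blockMap]
    congr 1
    ext c
    simp only [MulEquiv.trans_apply, coe_conjEquivOf]
    group
  rw [hfix, hun] at hcomp
  have h5 := congrArg (blockMap (conjEquivOf g₂ (conj_zpowers hg₂)).symm) hcomp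
  rw [blockMap_symm_blockMap, blockMap_symm_blockMap] at h5
  exact h5

/-- Every block inducing `B` is related to some element of `P`. -/
theorem exists_rel_of_block [Fact p.Prime] (hM : IsPModular p M) (hmax : IsMaximalBrauerPair p M B P e)
    (hf : IsBrauerPairOf p M B (Subgroup.zpowers x) f₀) :
    ∃ g : G, g * x * g⁻¹ ∈ P ∧ Rel p M P e x (g * x * g⁻¹) f₀ := by
  classical
  obtain ⟨y, hy⟩ := exists_conj_subpairLE hM hmax hf
  rw [conjBlock_eq] at hy
  have h1 := subpairLE_of_map_eq (conj_zpowers (rfl : y * x * y⁻¹ = y * x * y⁻¹)) hy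
  exact ⟨y, Subgroup.zpowers_le.mp (le_of_subpairLE h1), y, rfl, h1⟩

/-- The stabilizer of `(P, e)` preserves the relation. -/
theorem rel_conj [Fact p.Prime] (hM : IsPModular p M) (hPe : IsBrauerPair p M P e)
    {t : G} (ht : t ∈ stabSub P e) (h : Rel p M P e x x₀ f₀) :
    Rel p M P e x (t * x₀ * t⁻¹) f₀ := by
  classical
  haveI := isPrime_of_pModular hM
  obtain ⟨g, hg, hle⟩ := h
  have hPt : P.map (MulAut.conj t).toMonoidHom = P := map_conj_eq_of_mem_normalizer ht.1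
  have h1 := subpairLE_conj (conj_zpowers (rfl : t * x₀ * t⁻¹ = t * x₀ * t⁻¹)) hPt hle
  rw [blockMap_eq_of_stabilizes hPt hPe.2 ht.2] at h1
  have hg' : (t * g) * x * (t * g)⁻¹ = t * x₀ * t⁻¹ := by
    rw [← hg]
    group
  refine ⟨t * g, hg', ?_⟩
  rwa [blockMap_conj_conj g t (conj_zpowers hg) _ (conj_zpowers hg')] at h1

/-- Two elements related to the same block are conjugate under the stabilizer of `(P, e)`. -/
theorem exists_stab_of_rel [Fact p.Prime] (hM : IsPModular p M) (hmax : IsMaximalBrauerPair p M B P e)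
    (hab : ∀ x ∈ P, ∀ y ∈ P, x * y = y * x) (hx₀ : x₀ ∈ P) (hx' : x' ∈ P) (hf : IsPBlock M f₀)
    (h₀ : Rel p M P e x x₀ f₀) (h' : Rel p M P e x x' f₀) :
    ∃ t ∈ stabSub P e, t * x₀ * t⁻¹ = x' := by
  classical
  haveI := isPrime_of_pModular hM
  obtain ⟨g₀, hg₀, hle₀⟩ := h₀
  obtain ⟨g', hg', hle'⟩ := h'
  have hw : (g' * g₀⁻¹) * x₀ * (g' * g₀⁻¹)⁻¹ = x' := by
    rw [← hg', ← hg₀]
    group
  have hwf : blockMap (conjEquivOf (g' * g₀⁻¹) (conj_zpowers hw))
      (blockMap (conjEquivOf g₀ (conj_zpowers hg₀)) f₀) =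
      blockMap (conjEquivOf g' (conj_zpowers hg')) f₀ := by
    rw [blockMap_blockMap]
    congr 1
    ext c
    simp only [MulEquiv.trans_apply, coe_conjEquivOf]
    group
  obtain ⟨t, ht, c, hc, rfl⟩ := exists_fusion hM hmax hab (Subgroup.zpowers_le.mpr hx₀)
    (Subgroup.zpowers_le.mpr hx') (isPBlock_blockMap _ hf) (isPBlock_blockMap _ hf) hle₀ hle'
    (conj_zpowers hw) hwf
  refine ⟨_, ht, ?_⟩
  have hcx : c * x' = x' * c :=
    (Subgroup.mem_centralizer_iff.mp hc x' (Subgroup.mem_zpowers x')).symm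
  calc c * (g' * g₀⁻¹) * x₀ * (c * (g' * g₀⁻¹))⁻¹
      = c * ((g' * g₀⁻¹) * x₀ * (g' * g₀⁻¹)⁻¹) * c⁻¹ := by group
    _ = c * x' * c⁻¹ := by rw [hw]
    _ = x' := by rw [hcx]; group

end Cfsg.Agent.Lib.KleinBlock.Fusion
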