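import Mathlib
import Cfsg.Agent.Lib.KleinBlock.Fusion
import Cfsg.Agent.Lib.KleinBlock.Rank
import Cfsg.Agent.Lib.KleinBlock.Card
import Cfsg.Agent.Lib.Blocks.SectionCount
import Cfsg.Agent.Lib.Blocks.Subsection

/-!
# The number of subsections of a block with Klein four defect group
-/

set_option linter.unusedSectionVars false
set_option linter.style.haveILetI false
set_option autoImplicit false

namespace Cfsg.Agent.Lib.KleinBlock.Count

open Cfsg MonoidAlgebra
open Cfsg.Agent.Lib.Blocks.Local Cfsg.Agent.Lib.Blocks.Central Cfsg.Agent.Lib.Blocks.Main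
open Cfsg.Agent.Lib.Blocks.Defect2
open Cfsg.Agent.Lib.BlockH.Transport
open Cfsg.Agent.Lib.BlockH.SubpairLE Cfsg.Agent.Lib.BlockH.ConjPair
open Cfsg.Agent.Lib.BlockH.MaxPair Cfsg.Agent.Lib.BlockH.Sylow Cfsg.Agent.Lib.BlockH.Defects
open Cfsg.Agent.Lib.BlockH.InducedPairs Cfsg.Agent.Lib.BlockH.Pairs
open Cfsg.Agent.Lib.Blocks.SectionCount Cfsg.Agent.Lib.Blocks.ClosedRank
open Cfsg.Agent.Lib.KleinBlock.Fusion
open scoped ComplexConjugate

universe u

section Klein

variable {G : Type u} [Group G] [Fintype G] {P : Subgroup G}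

theorem klein_eq (hcard : Nat.card P = 4) (hexp : ∀ a ∈ P, a ^ 2 = 1)
    {x a : G} (hx : x ∈ P) (ha : a ∈ P) (hx1 : x ≠ 1) (ha1 : a ≠ 1) (hax : a ≠ x) {b : G} (hb : b ∈ P) :
    b = 1 ∨ b = x ∨ b = a ∨ b = x * a := by
  classical
  have hxa1 : x * a ≠ 1 := by
    intro h
    apply hax
    have h1 := hexp x hx
    calc a = x * x * a := by
          rw [← pow_two, h1, one_mul]
      _ = x * (x * a) := by group
      _ = x := by rw [h, mul_one]
  have hxax : x * a ≠ x := fun h => ha1 (by simpa using h)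
  have hxaa : x * a ≠ a := fun h => hx1 (by simpa using h)
  set S : Finset G := {1, x, a, x * a} with hS
  set T : Finset G := Finset.univ.filter (· ∈ P) with hT
  have hST : S ⊆ T := by
    intro y hy
    simp only [hS, Finset.mem_insert, Finset.mem_singleton] at hy
    simp only [hT, Finset.mem_filter, Finset.mem_univ, true_and]
    rcases hy with rfl | rfl | rfl | rfl
    · exact P.one_mem
    · exact hx
    · exact ha
    · exact P.mul_mem hx ha
  have hScard : S.card = 4 := by
    rw [hS, Finset.card_insert_of_notMem, Finset.card_insert_of_notMem, Finset.card_insert_of_notMem,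
      Finset.card_singleton]
    · simp [hxaa.symm]
    · simp [hax.symm, hxax.symm]
    · simp only [Finset.mem_insert, Finset.mem_singleton, not_or]
      exact ⟨hx1.symm, ha1.symm, hxa1.symm⟩
  have hTcard : T.card = 4 := by
    rw [← hcard, Nat.card_eq_fintype_card, hT, Fintype.card_subtype]
  have hEq : S = T := Finset.eq_of_subset_of_card_le hST (by omega)
  have hbT : b ∈ T := by simp [hT, hb]
  rw [← hEq] at hbT
  simpa [hS] using hbT

theorem conj_conj_eq (hcard : Nat.card P = 4) (hexp : ∀ a ∈ P, a ^ 2 = 1) {t : G}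
    (ht : ∀ a ∈ P, t * a * t⁻¹ ∈ P) {x : G} (hx : x ∈ P) (hx1 : x ≠ 1) (htx : t * x * t⁻¹ = x)
    {a : G} (ha : a ∈ P) : t * (t * a * t⁻¹) * t⁻¹ = a := by
  by_cases ha1 : a = 1
  · simp [ha1]
  by_cases hax : a = x
  · rw [hax, htx, htx]
  set b := t * a * t⁻¹ with hb
  have hbP : b ∈ P := ht a ha
  have hb1 : b ≠ 1 := by
    intro h
    apply ha1
    have : t * a * t⁻¹ = t * 1 * t⁻¹ := by rw [← hb, h]; group
    exact mul_left_cancel (mul_right_cancel this)
  have hbx : b ≠ x := by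
    intro h
    apply hax
    have : t * a * t⁻¹ = t * x * t⁻¹ := by rw [← hb, h, htx]
    exact mul_left_cancel (mul_right_cancel this)
  rcases klein_eq hcard hexp hx ha hx1 ha1 hax hbP with h | h | h | h
  · exact absurd h hb1
  · exact absurd h hbx
  · rw [h, ← hb, h]
  · have e1 : t * (x * a) * t⁻¹ = (t * x * t⁻¹) * (t * a * t⁻¹) := by group
    have h2 := hexp x hx
    rw [h, e1, htx, ← hb, h]
    calc x * (x * a) = x ^ 2 * a := by rw [pow_two, mul_assoc]
      _ = a := by rw [h2, one_mul]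

/-- The stabilizer of a nontrivial element in a group of automorphisms of odd order of `P` is trivial. -/
theorem mem_centralizer_of_fix (hcard : Nat.card P = 4) (hexp : ∀ a ∈ P, a ^ 2 = 1) {T : Subgroup G}
    (hTN : T ≤ Subgroup.normalizer (P : Set G))
    (hodd : ¬ 2 ∣ (Subgroup.centralizer (P : Set G)).relIndex T) {t : G} (ht : t ∈ T) {x : G} (hx : x ∈ P)
    (hx1 : x ≠ 1) (htx : t * x * t⁻¹ = x) : t ∈ Subgroup.centralizer (P : Set G) := by
  classical
  haveI hK : ((Subgroup.centralizer (P : Set G)).subgroupOf T).Normal := by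
    constructor
    intro n hn s
    rw [Subgroup.mem_subgroupOf] at hn ⊢
    exact (Subgroup.mem_normalizer_iff.mp (mem_normalizer_centralizer (hTN s.2)) n).mp hn
  have h1 := Subgroup.pow_index_mem ((Subgroup.centralizer (P : Set G)).subgroupOf T) (⟨t, ht⟩ : T)
  rw [Subgroup.mem_subgroupOf] at h1
  have h1' : t ^ (Subgroup.centralizer (P : Set G)).relIndex T ∈ Subgroup.centralizer (P : Set G) := by
    simpa [Subgroup.relIndex] using h1
  have hact : ∀ a ∈ P, t * a * t⁻¹ ∈ P := fun a ha => (Subgroup.mem_normalizer_iff.mp (hTN ht) a).mp ha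
  have hsq : t ^ 2 ∈ Subgroup.centralizer (P : Set G) := by
    rw [Subgroup.mem_centralizer_iff]
    intro a ha
    have h2 := conj_conj_eq hcard hexp hact hx hx1 htx ha
    calc a * t ^ 2 = (t * (t * a * t⁻¹) * t⁻¹) * t ^ 2 := by rw [h2]
      _ = t ^ 2 * a := by rw [pow_two]; group
  obtain ⟨m, hm⟩ : ∃ m, (Subgroup.centralizer (P : Set G)).relIndex T = 2 * m + 1 := by
    rcases Nat.even_or_odd' ((Subgroup.centralizer (P : Set G)).relIndex T) with ⟨m, h | h⟩
    · exact absurd (h ▸ dvd_mul_right 2 m) hodd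
    · exact ⟨m, h⟩
  rw [hm] at h1'
  have e2 : t = ((t ^ 2) ^ m)⁻¹ * t ^ (2 * m + 1) := by
    have e3 : t ^ (2 * m + 1) = (t ^ 2) ^ m * t := by rw [pow_succ, pow_mul]
    rw [e3, inv_mul_cancel_left]
  rw [e2]
  exact Subgroup.mul_mem _ (Subgroup.inv_mem _ (Subgroup.pow_mem _ hsq m)) h1'

/-- The size of an orbit. -/
theorem ncard_orbit (hcard : Nat.card P = 4) (hexp : ∀ a ∈ P, a ^ 2 = 1) {T : Subgroup G}
    (hTN : T ≤ Subgroup.normalizer (P : Set G))
    (hodd : ¬ 2 ∣ (Subgroup.centralizer (P : Set G)).relIndex T) {x : G} (hx : x ∈ P) (hx1 : x ≠ 1) :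
    Set.ncard {y : G | ∃ t ∈ T, t * x * t⁻¹ = y} = (Subgroup.centralizer (P : Set G)).relIndex T := by
  classical
  letI : MulAction T G := MulAction.compHom G
    ((ConjAct.toConjAct : G ≃* ConjAct G).toMonoidHom.comp T.subtype)
  have hsmul : ∀ (t : T) (y : G), t • y = (t : G) * y * (t : G)⁻¹ := fun t y => rfl
  have h1 := MulAction.index_stabilizer T x
  have h2 : MulAction.stabilizer T x = (Subgroup.centralizer (P : Set G)).subgroupOf T := by
    ext t
    rw [MulAction.mem_stabilizer_iff, Subgroup.mem_subgroupOf, hsmul]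
    constructor
    · intro h
      exact mem_centralizer_of_fix hcard hexp hTN hodd t.2 hx hx1 h
    · intro h
      have h3 := Subgroup.mem_centralizer_iff.mp h x hx
      rw [← h3]
      group
  have h3 : MulAction.orbit T x = {y : G | ∃ t ∈ T, t * x * t⁻¹ = y} := by
    ext y
    simp only [MulAction.mem_orbit_iff, hsmul, Set.mem_ofPred_eq]
    constructor
    · rintro ⟨t, rfl⟩
      exact ⟨t, t.2, rfl⟩
    · rintro ⟨t, ht, rfl⟩
      exact ⟨⟨t, ht⟩, rfl⟩
  rw [h2, h3] at h1
  exact h1.symm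

end Klein

section Rank

variable {G : Type u} [Group G] [Fintype G] {M : Ideal AlgInt} [Fact (Nat.Prime 2)]
  {B : Set (IrrCharacter G)}

/-- The rank of the union of the blocks inducing `B`. -/
theorem blockRank_indU_eq_card (hM : IsPModular 2 M) (hB : IsPBlock M B) (H : Subgroup G) [Fintype H] [Fintype (IrrCharacter H)]
    (Bs : Finset (Set (IrrCharacter H))) (hBs : ∀ f, f ∈ Bs ↔ IsInducedBlock M H f B)
    (h1 : ∀ f ∈ Bs, blockRank 2 f = 1) : blockRank 2 (indU M H B) = Bs.card := by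
  classical
  haveI := isPrime_of_pModular hM
  haveI := Cfsg.Agent.Lib.Char.Ortho.finite_irrCharacter (G := G)
  letI : Fintype (IrrCharacter G) := Fintype.ofFinite _
  have hA : ∀ ψ, ψ ∈ indU M H B ↔ ∃ b ∈ (Bs : Set (Set (IrrCharacter H))), ψ ∈ b := by
    intro ψ
    constructor
    · rintro ⟨B', hB', hind⟩
      obtain ⟨χ, hχ⟩ := isPBlock_nonempty hind.2.1
      have hb : IsInducedBlock M H (blockOf M (ψ : H → ℂ)) B := by
        rwa [isPBlock_eq_blockOf hB (hB' hχ), ← isPBlock_eq_blockOf hind.2.1 hχ]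
      exact ⟨_, (hBs _).mpr hb, mem_blockOf_self ψ⟩
    · rintro ⟨b, hb, hψ⟩
      have hb' := (hBs b).mp hb
      refine ⟨B, subset_rfl, ?_⟩
      rw [← isPBlock_eq_blockOf hb'.1 hψ]
      exact hb'
  have e1 := Cfsg.Agent.Lib.Blocks.Subsection.sum_blockRank hM (p := 2) (↑Bs)
    (fun b hb => ((hBs b).mp hb).1) (indU M H B) hA
  have e2 := card_mul_blockRank (p := 2) hM (B := indU M H B) indU_closed
  rw [finsum_mem_coe_finset, Finset.sum_congr rfl h1] at e1
  simp only [Finset.sum_const, smul_eq_mul, mul_one] at e1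
  have e3 : ((Bs.card : ℕ) : ℂ) = (blockRank 2 (indU M H B) : ℂ) := e1.trans e2.symm
  exact_mod_cast e3.symm

end Rank

section Main

variable {G : Type u} [Group G] [Fintype G] {M : Ideal AlgInt} [Fact (Nat.Prime 2)]
  {B : Set (IrrCharacter G)} {P : Subgroup G}
  {c : Set (IrrCharacter (Subgroup.centralizer (P : Set G)))}

/-- The centralizer of the cyclic group generated by `x`. -/
abbrev CZ (x : G) : Subgroup G := Subgroup.centralizer ((Subgroup.zpowers x : Subgroup G) : Set G)

theorem centralizer_singleton_eq (x : G) : Subgroup.centralizer ({x} : Set G) = CZ x := by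
  ext y
  rw [Subgroup.mem_centralizer_singleton_iff, Subgroup.mem_centralizer_iff]
  constructor
  · intro h
    rintro _ ⟨i, rfl⟩
    have hc : Commute x y := h.symm
    exact (hc.zpow_left i).eq
  · intro h
    exact (h x (Subgroup.mem_zpowers x)).symm

/-- The elements of `P` conjugate to `x` against the blocks of `C_G(x)` inducing `B`. -/
theorem card_eq_mul_relIndex (hM : IsPModular 2 M) (hmax : IsMaximalBrauerPair 2 M B P c)
    (hab : ∀ x ∈ P, ∀ y ∈ P, x * y = y * x) (hcard : Nat.card P = 4) (hexp : ∀ a ∈ P, a ^ 2 = 1)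
    (hodd : ¬ 2 ∣ (Subgroup.centralizer (P : Set G)).relIndex (stabSub P c))
    {x : G} (hx : ∃ k : ℕ, orderOf x = 2 ^ k) (hx1 : x ≠ 1)
    (Ps : Finset G) (hPs : ∀ y, y ∈ Ps ↔ y ∈ P ∧ y ≠ 1 ∧ IsConj x y)
    (Bs : Finset (Set (IrrCharacter (CZ x)))) (hBs : ∀ f, f ∈ Bs ↔ IsInducedBlock M (CZ x) f B) :
    Ps.card = Bs.card * (Subgroup.centralizer (P : Set G)).relIndex (stabSub P c) := by
  classical
  haveI := isPrime_of_pModular hM
  have hpgx : IsPGroup 2 (Subgroup.zpowers x) := Cfsg.Agent.Lib.Contrib.Section.isPGroup_zpowers' hx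
  have key := Finset.sum_card_bipartiteAbove_eq_sum_card_bipartiteBelow (s := Ps) (t := Bs)
    (fun y f => Rel 2 M P c x y f)
  have h1 : ∀ y ∈ Ps, (Bs.bipartiteAbove (fun y f => Rel 2 M P c x y f) y).card = 1 := by
    intro y hy
    obtain ⟨hyP, hy1, hyc⟩ := (hPs y).mp hy
    obtain ⟨g, hg⟩ := isConj_iff.mp hyc
    obtain ⟨f, hf, hrel⟩ := exists_rel_of_conj hM hmax.1 hyP hg
    rw [Finset.card_eq_one]
    refine ⟨f, ?_⟩
    ext z
    simp only [Finset.mem_bipartiteAbove, Finset.mem_singleton]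
    constructor
    · rintro ⟨hz, hzr⟩
      exact rel_unique hM hmax.1.1 hyP ((hBs z).mp hz).1 hf.1 hzr hrel
    · rintro rfl
      exact ⟨(hBs _).mpr hf, hrel⟩
  have h2 : ∀ f ∈ Bs, (Ps.bipartiteBelow (fun y f => Rel 2 M P c x y f) f).card =
      (Subgroup.centralizer (P : Set G)).relIndex (stabSub P c) := by
    intro f hf
    have hf' := (hBs f).mp hf
    have hpair := Cfsg.Agent.Lib.Contrib.Section.isBrauerPairOf_of_induced hM hpgx hf'
    obtain ⟨g, hgP, hrel⟩ := exists_rel_of_block hM hmax hpair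
    have hx₀1 : g * x * g⁻¹ ≠ 1 := by
      intro h
      apply hx1
      have : g * x * g⁻¹ = g * 1 * g⁻¹ := by rw [h]; group
      exact mul_left_cancel (mul_right_cancel this)
    have hset : ((Ps.bipartiteBelow (fun y f => Rel 2 M P c x y f) f : Finset G) : Set G) =
        {y | ∃ t ∈ stabSub P c, t * (g * x * g⁻¹) * t⁻¹ = y} := by
      ext y
      simp only [Finset.mem_coe, Finset.mem_bipartiteBelow, Set.mem_ofPred_eq]
      constructor
      · rintro ⟨hy, hyr⟩
        exact exists_stab_of_rel hM hmax hab hgP ((hPs y).mp hy).1 hf'.1 hrel hyr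
      · rintro ⟨t, ht, rfl⟩
        refine ⟨(hPs _).mpr ⟨(Subgroup.mem_normalizer_iff.mp ht.1 _).mp hgP, ?_, ?_⟩,
          rel_conj hM hmax.1.1 ht hrel⟩
        · intro h
          apply hx₀1
          have : t * (g * x * g⁻¹) * t⁻¹ = t * 1 * t⁻¹ := by rw [h]; group
          exact mul_left_cancel (mul_right_cancel this)
        · rw [isConj_iff]
          exact ⟨t * g, by group⟩
    rw [← Set.ncard_coe_finset, hset]
    exact ncard_orbit hcard hexp stabSub_le_normalizer hodd hgP hx₀1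
  rw [Finset.sum_congr rfl h1, Finset.sum_congr rfl h2] at key
  simpa using key

/-- The blocks of `C_G(x)` inducing `B` have rank one. -/
theorem blockRank_induced (hM : IsPModular 2 M) (hmax : IsMaximalBrauerPair 2 M B P c)
    (hD : IsDefectGroup 2 M B P) (hcard : Nat.card P = 4) (hexp : ∀ a ∈ P, a ^ 2 = 1)
    {x : G} (hx : ∃ k : ℕ, orderOf x = 2 ^ k) (hx1 : x ≠ 1)
    {f : Set (IrrCharacter (CZ x))} (hf : IsInducedBlock M (CZ x) f B) : blockRank 2 f = 1 := by
  classical
  haveI := isPrime_of_pModular hM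
  have hpair := Cfsg.Agent.Lib.Contrib.Section.isBrauerPairOf_of_induced hM
    (Cfsg.Agent.Lib.Contrib.Section.isPGroup_zpowers' hx) hf
  obtain ⟨g, hgP, -⟩ := exists_rel_of_block hM hmax hpair
  have hxo : orderOf x = 2 := by
    have h1 := hexp _ hgP
    have h2 : x ^ 2 = 1 := by
      have h3 : g * x ^ 2 * g⁻¹ = g * 1 * g⁻¹ := by
        rw [pow_two] at h1 ⊢
        calc g * (x * x) * g⁻¹ = g * x * g⁻¹ * (g * x * g⁻¹) := by group
          _ = 1 := h1
          _ = g * 1 * g⁻¹ := by group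
      exact mul_left_cancel (mul_right_cancel h3)
    exact orderOf_eq_prime h2 hx1
  have hd : blockDefect 2 f ≤ 2 := by
    letI : Fintype (CZ x) := Fintype.ofFinite _
    haveI := Cfsg.Agent.Lib.Char.Ortho.finite_irrCharacter (G := CZ x)
    letI : Fintype (IrrCharacter (CZ x)) := Fintype.ofFinite _
    haveI := Cfsg.Agent.Lib.Char.Ortho.finite_irrCharacter (G := G)
    letI : Fintype (IrrCharacter G) := Fintype.ofFinite _
    obtain ⟨D, hDf⟩ := exists_isDefectGroup (p := 2) hf.1
    obtain ⟨E, hE, hle⟩ := exists_defect_ge hM hf hDf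
    have h1 := Cfsg.Agent.Lib.Blocks.Inducing.card_eq_pow_blockDefect hM hf.1 hDf
    have h2 := Cfsg.Agent.Lib.Blocks.Inducing.card_eq_pow_blockDefect hM hf.2.1 hE
    have h3 := Cfsg.Agent.Lib.KleinBlock.Card.blockDefect_eq_two hM hf.2.1 hD hcard
    rw [h3] at h2
    have h4 : Nat.card D ≤ Nat.card E := by
      calc Nat.card D = Nat.card (D.map (CZ x).subtype) :=
            Nat.card_congr (D.equivMapOfInjective _ Subtype.val_injective).toEquiv
        _ ≤ _ := Subgroup.card_le_of_le hle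
    rw [h1, h2] at h4
    exact (Nat.pow_le_pow_iff_right (by norm_num)).mp h4
  have aux : ∀ (H : Subgroup G) (_ : Subgroup.centralizer ({x} : Set G) = H) (f : Set (IrrCharacter H)),
      IsPBlock M f → blockDefect 2 f ≤ 2 → blockRank 2 f = 1 := by
    rintro H rfl f hf hd
    exact Cfsg.Agent.Lib.KleinBlock.Rank.blockRank_eq_one hM hxo hf hd
  exact aux _ (centralizer_singleton_eq x) f hf.1 hd

/-- The local count. -/
theorem mul_blockRank (hM : IsPModular 2 M) (hmax : IsMaximalBrauerPair 2 M B P c)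
    (hD : IsDefectGroup 2 M B P)
    (hab : ∀ x ∈ P, ∀ y ∈ P, x * y = y * x) (hcard : Nat.card P = 4) (hexp : ∀ a ∈ P, a ^ 2 = 1)
    (hodd : ¬ 2 ∣ (Subgroup.centralizer (P : Set G)).relIndex (stabSub P c))
    {x : G} (hx : ∃ k : ℕ, orderOf x = 2 ^ k) (hx1 : x ≠ 1)
    (Ps : Finset G) (hPs : ∀ y, y ∈ Ps ↔ y ∈ P ∧ y ≠ 1 ∧ IsConj x y) :
    (Subgroup.centralizer (P : Set G)).relIndex (stabSub P c) *
      blockRank 2 (indU M (Subgroup.centralizer ({x} : Set G)) B) = Ps.card := by
  classical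
  letI : Fintype (CZ x) := Fintype.ofFinite _
  haveI := Cfsg.Agent.Lib.Char.Ortho.finite_irrCharacter (G := CZ x)
  letI : Fintype (IrrCharacter (CZ x)) := Fintype.ofFinite _
  set Bs : Finset (Set (IrrCharacter (CZ x))) :=
    Finset.univ.filter (fun f => IsInducedBlock M (CZ x) f B) with hBsd
  have hBs : ∀ f, f ∈ Bs ↔ IsInducedBlock M (CZ x) f B := by
    intro f
    simp [hBsd]
  have h1 := card_eq_mul_relIndex hM hmax hab hcard hexp hodd hx hx1 Ps hPs Bs hBs
  have h2 := blockRank_indU_eq_card hM hmax.1.2.1 (CZ x) Bs hBs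
    (fun f hf => blockRank_induced hM hmax hD hcard hexp hx hx1 ((hBs f).mp hf))
  have aux : ∀ (H : Subgroup G) (_ : Subgroup.centralizer ({x} : Set G) = H),
      blockRank 2 (indU M (Subgroup.centralizer ({x} : Set G)) B) = blockRank 2 (indU M H B) := by
    rintro H rfl
    rfl
  rw [aux _ (centralizer_singleton_eq x), h2, h1, mul_comm]

/-- The conjugates of `x` in `P` against the conjugating elements. -/
theorem card_conj_filter (x : G) (Ps : Finset G) (hPs : ∀ y, y ∈ Ps ↔ y ∈ P ∧ y ≠ 1 ∧ IsConj x y)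
    (Om : Finset G) (hOm : ∀ g, g ∈ Om ↔ g * x * g⁻¹ ∈ P ∧ g * x * g⁻¹ ≠ 1) :
    Om.card = Nat.card (Subgroup.centralizer ({x} : Set G)) * Ps.card := by
  classical
  letI : Fintype (Subgroup.centralizer ({x} : Set G)) := Fintype.ofFinite _
  have hmap : (Om : Set G).MapsTo (fun g => g * x * g⁻¹) Ps := by
    intro g hg
    have hg' := (hOm g).mp hg
    refine (hPs _).mpr ⟨hg'.1, hg'.2, ?_⟩
    rw [isConj_iff]
    exact ⟨g, rfl⟩
  rw [Finset.card_eq_sum_card_fiberwise hmap]
  have hf : ∀ y ∈ Ps, (Om.filter (fun g => g * x * g⁻¹ = y)).card =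
      Nat.card (Subgroup.centralizer ({x} : Set G)) := by
    intro y hy
    obtain ⟨hyP, hy1, hyc⟩ := (hPs y).mp hy
    obtain ⟨g₀, hg₀⟩ := isConj_iff.mp hyc
    rw [Nat.card_eq_fintype_card, ← Finset.card_univ]
    symm
    refine Finset.card_bij (fun c _ => g₀ * (c : G)) ?_ ?_ ?_
    · intro c _
      have hc : (c : G) * x * (c : G)⁻¹ = x := by
        have := Subgroup.mem_centralizer_singleton_iff.mp c.2
        rw [this]
        group
      have e1 : g₀ * (c : G) * x * (g₀ * (c : G))⁻¹ = y := by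
        rw [← hg₀]
        calc g₀ * (c : G) * x * (g₀ * (c : G))⁻¹ = g₀ * ((c : G) * x * (c : G)⁻¹) * g₀⁻¹ := by group
          _ = g₀ * x * g₀⁻¹ := by rw [hc]
      simp only [Finset.mem_filter]
      refine ⟨(hOm _).mpr ?_, e1⟩
      rw [e1]
      exact ⟨hyP, hy1⟩
    · intro c _ c' _ h
      exact Subtype.ext (mul_left_cancel h)
    · intro g hg
      have hg' := (Finset.mem_filter.mp hg).2
      have hmem : g₀⁻¹ * g ∈ Subgroup.centralizer ({x} : Set G) := by
        rw [Subgroup.mem_centralizer_singleton_iff]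
        have e1 : g * x * g⁻¹ = g₀ * x * g₀⁻¹ := hg'.trans hg₀.symm
        calc g₀⁻¹ * g * x = g₀⁻¹ * (g * x * g⁻¹) * g := by group
          _ = g₀⁻¹ * (g₀ * x * g₀⁻¹) * g := by rw [e1]
          _ = x * (g₀⁻¹ * g) := by group
      exact ⟨⟨_, hmem⟩, Finset.mem_univ _, by simp⟩
  rw [Finset.sum_congr rfl hf]
  simp [mul_comm]

/-- The number of nontrivial elements of `P`. -/
theorem card_filter_conj (hcard : Nat.card P = 4) (g : G) (Xs : Finset G)
    (hXs : ∀ x, x ∈ Xs ↔ g * x * g⁻¹ ∈ P ∧ g * x * g⁻¹ ≠ 1) : Xs.card = 3 := by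
  classical
  set T : Finset G := Finset.univ.filter (· ∈ P) with hT
  have hTcard : T.card = 4 := by
    rw [← hcard, Nat.card_eq_fintype_card, hT, Fintype.card_subtype]
  have h1 : T.erase 1 = Xs.image (fun x => g * x * g⁻¹) := by
    ext y
    simp only [hT, Finset.mem_erase, Finset.mem_filter, Finset.mem_univ, true_and, Finset.mem_image, hXs]
    constructor
    · rintro ⟨h1, h2⟩
      refine ⟨g⁻¹ * y * g, ?_, by group⟩
      have e : g * (g⁻¹ * y * g) * g⁻¹ = y := by group
      rw [e]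
      exact ⟨h2, h1⟩
    · rintro ⟨x, ⟨h1, h2⟩, rfl⟩
      exact ⟨h2, h1⟩
  have h2 : (T.erase 1).card = 3 := by
    rw [Finset.card_erase_of_mem (by simp [hT, P.one_mem]), hTcard]
  rw [h1, Finset.card_image_of_injective] at h2
  · exact h2
  · intro a b hab
    exact mul_left_cancel (mul_right_cancel hab)

open Classical in
/-- **The global count.** -/
theorem mul_sum_eq (hM : IsPModular 2 M) (hmax : IsMaximalBrauerPair 2 M B P c)
    (hD : IsDefectGroup 2 M B P)
    (hab : ∀ x ∈ P, ∀ y ∈ P, x * y = y * x) (hcard : Nat.card P = 4) (hexp : ∀ a ∈ P, a ^ 2 = 1)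
    (hodd : ¬ 2 ∣ (Subgroup.centralizer (P : Set G)).relIndex (stabSub P c)) :
    (((Subgroup.centralizer (P : Set G)).relIndex (stabSub P c) : ℕ) : ℂ) *
      (∑ x : G, if x ≠ 1 ∧ ∃ k : ℕ, orderOf x = 2 ^ k then
        (Nat.card (Subgroup.centralizer ({x} : Set G)) : ℂ) *
          (blockRank 2 (indU M (Subgroup.centralizer ({x} : Set G)) B) : ℂ) else 0) =
      ((3 * Nat.card G : ℕ) : ℂ) := by
  classical
  set e := (Subgroup.centralizer (P : Set G)).relIndex (stabSub P c) with he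
  set Om : G → Finset G := fun x => Finset.univ.filter (fun g => g * x * g⁻¹ ∈ P ∧ g * x * g⁻¹ ≠ 1) with hOm
  have hOmm : ∀ x g, g ∈ Om x ↔ g * x * g⁻¹ ∈ P ∧ g * x * g⁻¹ ≠ 1 := by
    intro x g
    simp [hOm]
  have hA : ∀ x : G, (e : ℂ) * (if x ≠ 1 ∧ ∃ k : ℕ, orderOf x = 2 ^ k then
        (Nat.card (Subgroup.centralizer ({x} : Set G)) : ℂ) *
          (blockRank 2 (indU M (Subgroup.centralizer ({x} : Set G)) B) : ℂ) else 0) =
      ((Om x).card : ℂ) := by
    intro x
    split_ifs with hc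
    · obtain ⟨hx1, hx⟩ := hc
      set Ps : Finset G := Finset.univ.filter (fun y => y ∈ P ∧ y ≠ 1 ∧ IsConj x y) with hPsd
      have hPs : ∀ y, y ∈ Ps ↔ y ∈ P ∧ y ≠ 1 ∧ IsConj x y := by
        intro y
        simp [hPsd]
      have h1 := mul_blockRank hM hmax hD hab hcard hexp hodd hx hx1 Ps hPs
      have h2 := card_conj_filter x Ps hPs (Om x) (hOmm x)
      rw [h2, ← h1]
      push_cast
      ring
    · rw [mul_zero]
      have hemp : Om x = ∅ := by
        rw [Finset.eq_empty_iff_forall_notMem]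
        intro g hg
        obtain ⟨h1, h2⟩ := (hOmm x g).mp hg
        apply hc
        have hx1 : x ≠ 1 := by
          rintro rfl
          apply h2
          group
        refine ⟨hx1, 1, ?_⟩
        have h3 := hexp _ h1
        have h4 : x ^ 2 = 1 := by
          have h5 : g * x ^ 2 * g⁻¹ = g * 1 * g⁻¹ := by
            rw [pow_two] at h3 ⊢
            calc g * (x * x) * g⁻¹ = g * x * g⁻¹ * (g * x * g⁻¹) := by group
              _ = 1 := h3
              _ = g * 1 * g⁻¹ := by group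
          exact mul_left_cancel (mul_right_cancel h5)
        rw [pow_one]
        exact orderOf_eq_prime h4 hx1
      rw [hemp]
      simp
  rw [Finset.mul_sum, Finset.sum_congr rfl fun x _ => hA x]
  have key := Finset.sum_card_bipartiteAbove_eq_sum_card_bipartiteBelow (s := (Finset.univ : Finset G))
    (t := (Finset.univ : Finset G)) (fun x g => g * x * g⁻¹ ∈ P ∧ g * x * g⁻¹ ≠ 1)
  have h1 : ∀ x ∈ (Finset.univ : Finset G),
      ((Finset.univ : Finset G).bipartiteAbove (fun x g => g * x * g⁻¹ ∈ P ∧ g * x * g⁻¹ ≠ 1) x).card =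
        (Om x).card := by
    intro x _
    congr 1
  have h2 : ∀ g ∈ (Finset.univ : Finset G),
      ((Finset.univ : Finset G).bipartiteBelow (fun x g => g * x * g⁻¹ ∈ P ∧ g * x * g⁻¹ ≠ 1) g).card = 3 := by
    intro g _
    refine card_filter_conj hcard g _ fun x => ?_
    simp [Finset.mem_bipartiteBelow]
  rw [Finset.sum_congr rfl h1, Finset.sum_congr rfl h2] at key
  have h3 : ∑ x : G, (Om x).card = 3 * Nat.card G := by
    rw [key]
    simp [Nat.card_eq_fintype_card, mul_comm]
  rw [← h3]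
  push_cast
  rfl

end Main

end Cfsg.Agent.Lib.KleinBlock.Count
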